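import Cfsg.Agent.H140.TC.Engine
import Cfsg.Agent.H308.TC.GLCorner

/-!
# S2464, orthogonal groups: frames of length `3` with nonscalar corner and Schur complement `≠ 1`

* `nsCornerS` : every nonscalar `g ∈ Ω` has a maximal frame with Schur complement `1` and nonscalar corner of
  determinant `s * s`, for every prescribed `s ≠ 0`.
* `frame3` : the sub-frame of length `3`.
-/

set_option autoImplicit false
set_option linter.unusedSectionVars false
set_option linter.unusedSimpArgs false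

namespace Cfsg.Agent.H140.TL

open Module QuadraticMap Matrix Cfsg.Agent.LieClassical.OrthCore Cfsg.Agent.LieClassical.OrthTrans
  Cfsg.Agent.LieClassical.OrthFinite
open Cfsg.Agent.H140.OreO Cfsg.Agent.H141.SpinFacts
open Cfsg.Agent.H434.Corn (MaxTS exists_functional exists_moved exists_adapted mids exists_partner_of_datum
  isSquare_corner mem_E_O)

variable {F V : Type*} [Field F] [AddCommGroup V] [Module F V] {Q : QuadraticForm F V}

theorem ns_adjust {U : Type*} [AddCommGroup U] [Module F U] [FiniteDimensional F U] {A : U →ₗ[F] U}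
    {H : Submodule F U} (hH0 : H ≠ ⊥) (hH1 : H ≠ ⊤) {d : F} (hd : d ≠ 0) (hdet : LinearMap.det A = d) :
    ∃ φ : U →ₗ[F] U, (∀ h ∈ H, φ h = 0) ∧ (∀ u, φ u ∈ H.map A) ∧ LinearMap.det (A + φ) = d ∧
      ∀ c : F, A + φ ≠ c • LinearMap.id := by
  classical
  obtain ⟨r₀, hr₀H, hr₀⟩ := Submodule.exists_mem_ne_zero_of_ne_bot hH0
  obtain ⟨u₀, -, hu₀⟩ := SetLike.exists_of_lt (lt_of_le_of_ne (le_top : H ≤ ⊤) hH1)
  by_cases hA : ∀ c : F, A ≠ c • LinearMap.id
  · exact ⟨0, fun _ _ => rfl, fun u => Submodule.zero_mem _, by rw [add_zero, hdet], by rwa [add_zero]⟩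
  · push Not at hA
    obtain ⟨c, hc⟩ := hA
    obtain ⟨ψ, hψ, hψ1⟩ := exists_functional hu₀
    have hAr : ∀ u, A u = c • u := fun u => by rw [hc]; rfl
    have e : A + ψ.smulRight (A r₀) = A ∘ₗ LinearMap.transvection ψ r₀ := by
      ext u
      simp [LinearMap.transvection.apply]
    have hc0 : c ≠ 0 := by
      rintro rfl
      have h1 : IsUnit A := (LinearMap.isUnit_iff_isUnit_det A).2 (by rw [hdet]; exact hd.isUnit)
      have h2 := ((Module.End.isUnit_iff A).1 h1).1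
      apply hr₀
      apply h2
      rw [hAr, zero_smul, map_zero]
    refine ⟨ψ.smulRight (A r₀), fun h hh => ?_, fun u => ?_, ?_, fun d hd => ?_⟩
    · rw [LinearMap.smulRight_apply, hψ h hh, zero_smul]
    · rw [LinearMap.smulRight_apply]
      exact Submodule.smul_mem _ _ ⟨r₀, hr₀H, rfl⟩
    · rw [e, LinearMap.det_comp, LinearMap.transvection.det, hdet, hψ r₀ hr₀H]
      ring
    · have h1 := LinearMap.congr_fun hd r₀
      rw [LinearMap.add_apply, LinearMap.smulRight_apply, hψ r₀ hr₀H, zero_smul, add_zero, hAr] at h1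
      have h2 : (c - d) • r₀ = 0 := by
        rw [sub_smul, sub_eq_zero]
        exact h1
      have h3 : c = d := sub_eq_zero.1 ((smul_eq_zero.1 h2).resolve_right hr₀)
      have h4 := LinearMap.congr_fun hd u₀
      rw [LinearMap.add_apply, LinearMap.smulRight_apply, hψ1, one_smul, hAr, hAr, h3] at h4
      have h5 : d • r₀ = 0 := add_eq_left.1 h4
      rw [← h3] at h5
      exact hr₀ ((smul_eq_zero.1 h5).resolve_left hc0)

/-- **The nonscalar corner theorem, prescribed square determinant.** -/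
theorem nsCornerS [Finite F] [FiniteDimensional F V] (hQ : Nondeg Q) {g : V ≃ₗ[F] V}
    (hg : g ∈ ⁅O Q, O Q⁆) (hs : ∀ c : F, ∃ v, g v ≠ c • v) {m : ℕ} (hm : 3 ≤ m)
    (hWm : ∀ W, MaxTS Q W → finrank F W = m) {r : F} (hr : r ≠ 0) :
    ∃ w w' : Fin m → V, Frame Q w w' ∧ SchurOne Q g w w' ∧ (corner Q g w w').det = r * r ∧
      ∀ c : F, corner Q g w w' ≠ c • (1 : Matrix (Fin m) (Fin m) F) := by
  classical
  have hgO : g ∈ O Q := mem_E_O hg
  obtain ⟨W, hW, ⟨w₀, hw₀, hw₀'⟩, w₁, hw₁, hw₁0, hw₁'⟩ := exists_moved hQ hgO hs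
    (fun W hW => by rw [hWm W hW]; exact hm)
  obtain ⟨W', H, W₁, h, hHW, hmem⟩ := exists_adapted hQ hgO hW
  have heven := h.even_finrank hQ hHW hg
  -- `W₁ ≠ 0`
  have hW₁ne : ∃ w ∈ W₁, w ≠ 0 := by
    obtain ⟨a, ha, b, hb, hab⟩ := h.split hw₀
    refine ⟨b, hb, ?_⟩
    rintro rfl
    rw [add_zero] at hab
    rw [hab] at hw₀'
    exact hw₀' (h.gH a ha)
  have hd : 1 ≤ finrank F W₁ := by
    obtain ⟨w, hw, hw0⟩ := hW₁ne
    rw [Nat.one_le_iff_ne_zero, Ne, Submodule.finrank_eq_zero]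
    intro h0
    rw [h0, Submodule.mem_bot] at hw
    exact hw0 hw
  -- the middle space has dimension at most `2`
  have hM2 : finrank F (mids Q W W') ≤ 2 := by
    by_contra hcon
    push Not at hcon
    obtain ⟨x, hx, hx0, hxs⟩ := Cfsg.Agent.LieClassical.OrthFinite.exists_sing_mem (Q := Q) (mids Q W W') (by omega)
    exact hx0 (h.dp.anis hW hx hxs)
  have he : finrank F (LinearMap.range h.dlt) ≤ 2 := (LinearMap.finrank_range_le _).trans hM2
  obtain ⟨l, hl⟩ : ∃ l, finrank F W₁ = finrank F (LinearMap.range h.dlt) + (l + l) := by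
    rw [Nat.even_iff] at heven
    refine ⟨(finrank F W₁ - finrank F (LinearMap.range h.dlt)) / 2, ?_⟩
    omega
  obtain ⟨A, t, D, hA⟩ := h.exists_datum hl
  obtain ⟨W'', P⟩ := exists_partner_of_datum h D
  obtain ⟨w, w', b, hf, hS, hc⟩ := P.exists_frame (hWm W hW)
  have hsq := isSquare_corner hQ hf hg hS
  rw [hc, LinearMap.det_toMatrix] at hsq
  obtain ⟨s, hs'⟩ := hsq
  have hdetA : LinearMap.det A ≠ 0 := by
    have h1 : IsUnit (LinearMap.det A) := by
      rw [← LinearMap.isUnit_iff_isUnit_det, Module.End.isUnit_iff]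
      exact ⟨hA, LinearMap.injective_iff_surjective.1 hA⟩
    exact h1.ne_zero
  have hs0 : s ≠ 0 := by
    rintro rfl
    rw [mul_zero] at hs'
    exact hdetA hs'
  obtain ⟨A', t', D', hA'⟩ := h.exists_scale hW₁ne D (mul_ne_zero hr (inv_ne_zero hs0))
  have hdet' : LinearMap.det A' = r * r := by
    rw [hA', hs']
    field_simp
  -- make the corner nonscalar
  have hH0 : H.comap W.subtype ≠ ⊥ := by
    intro h0
    have h1 : (⟨w₁, hw₁⟩ : W) ∈ H.comap W.subtype := h.mem_H hw₁ hw₁'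
    rw [h0, Submodule.mem_bot] at h1
    exact hw₁0 (congrArg Subtype.val h1)
  have hH1 : H.comap W.subtype ≠ ⊤ := by
    intro h0
    have h1 : (⟨w₀, hw₀⟩ : W) ∈ H.comap W.subtype := by rw [h0]; trivial
    exact hw₀' (h.gH w₀ h1)
  obtain ⟨φ, hφ1, hφ2, hφ3, hφ4⟩ := ns_adjust hH0 hH1 (mul_ne_zero hr hr) hdet'
  have D'' := D'.add h.dp.ts hgO (φ := φ) (fun w hw => hφ1 w (h.mem_H w.2 hw)) (fun w => by
    obtain ⟨x, hx, hxe⟩ := hφ2 w
    rw [← hxe, D'.fixA x (h.gH _ hx)]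
    exact ⟨x, x.2, rfl⟩)
  obtain ⟨W''', P'⟩ := exists_partner_of_datum h D''
  obtain ⟨w, w', b, hf, hS, hc⟩ := P'.exists_frame (hWm W hW)
  refine ⟨w, w', hf, hS, ?_, fun c hcc => hφ4 c ?_⟩
  · rw [hc, LinearMap.det_toMatrix, hφ3]
  · rw [hc] at hcc
    apply (LinearMap.toMatrix b b).injective
    rw [hcc, map_smul, LinearMap.toMatrix_id]

/-! ### sub-frames -/

section Sub

variable {k : ℕ} {w w' : Fin (3 + k) → V}

/-- linear combinations, indexed by `Fin 3 ⊕ Fin k` -/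
def cmb (w : Fin (3 + k) → V) (c : Fin 3 ⊕ Fin k → F) : V := ∑ l, c l • w (finSumFinEquiv l)

theorem cmb_eq (w : Fin (3 + k) → V) (c : Fin 3 ⊕ Fin k → F) :
    cmb w c = ∑ l, c (finSumFinEquiv.symm l) • w l := by
  rw [cmb, ← Equiv.sum_comp finSumFinEquiv]
  simp

theorem cmb_add (w : Fin (3 + k) → V) (c d : Fin 3 ⊕ Fin k → F) : cmb w (c + d) = cmb w c + cmb w d := by
  simp [cmb, add_smul, Finset.sum_add_distrib]

theorem cmb_smul (w : Fin (3 + k) → V) (a : F) (c : Fin 3 ⊕ Fin k → F) : cmb w (a • c) = a • cmb w c := by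
  simp [cmb, Finset.smul_sum, mul_smul]

theorem cmb_sum {ι : Type*} (s : Finset ι) (w : Fin (3 + k) → V) (f : ι → Fin 3 ⊕ Fin k → F) :
    cmb w (∑ i ∈ s, f i) = ∑ i ∈ s, cmb w (f i) := by
  classical
  induction s using Finset.induction_on with
  | empty => simp [cmb]
  | insert a s ha ih => rw [Finset.sum_insert ha, cmb_add, ih, Finset.sum_insert ha]

theorem polar_cmb (hf : Frame Q w w') (c d : Fin 3 ⊕ Fin k → F) : polar Q (cmb w c) (cmb w' d) = c ⬝ᵥ d := by
  rw [cmb_eq, cmb_eq, hf.polar_sum_sum, dotProduct, dotProduct, ← Equiv.sum_comp finSumFinEquiv]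
  simp

theorem polar_cmb_ll (hf : Frame Q w w') (c d : Fin 3 ⊕ Fin k → F) : polar Q (cmb w c) (cmb w d) = 0 := by
  rw [cmb_eq, cmb_eq, ← polarBilin_apply_apply, map_sum]
  refine Finset.sum_eq_zero fun i _ => ?_
  rw [map_smul, polarBilin_apply_apply, hf.polar_sum_ll, smul_zero]

theorem Q_cmb (hf : Frame Q w w') (c : Fin 3 ⊕ Fin k → F) : Q (cmb w c) = 0 := by
  rw [cmb_eq]
  exact hf.Q_sum_l _ _

/-- the corner, indexed by `Fin 3 ⊕ Fin k` -/
def cor (Q : QuadraticForm F V) (g : V → V) (w w' : Fin (3 + k) → V) : Matrix (Fin 3 ⊕ Fin k) (Fin 3 ⊕ Fin k) F :=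
  (corner Q g w w').submatrix finSumFinEquiv finSumFinEquiv

theorem polar_g (g : V ≃ₗ[F] V) (c d : Fin 3 ⊕ Fin k → F) :
    polar Q (g (cmb w c)) (cmb w' d) = d ⬝ᵥ (cor Q g w w' *ᵥ c) := by
  have h1 : g (cmb w c) = ∑ l, c l • g (w (finSumFinEquiv l)) := by
    rw [cmb, map_sum]
    simp only [map_smul]
  rw [h1, ← polarBilin_apply_apply, map_sum, LinearMap.sum_apply, cmb]
  simp only [map_smul, LinearMap.smul_apply, map_sum, polarBilin_apply_apply, dotProduct, mulVec, cor,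
    submatrix_apply, corner_apply, smul_eq_mul, Finset.mul_sum]
  rw [Finset.sum_comm]
  refine Finset.sum_congr rfl fun i _ => Finset.sum_congr rfl fun j _ => ?_
  ring

variable {P P' : Matrix (Fin 3 ⊕ Fin k) (Fin 3 ⊕ Fin k) F}

theorem dot_PP (hPP : P * P' = 1) (a b : Fin 3 ⊕ Fin k → F) : (P' *ᵥ a) ⬝ᵥ (Pᵀ *ᵥ b) = a ⬝ᵥ b := by
  rw [mulVec_transpose, dotProduct_comm, ← dotProduct_mulVec, mulVec_mulVec, hPP, one_mulVec, dotProduct_comm]

theorem polar_g' (g : V ≃ₗ[F] V) (a b : Fin 3 ⊕ Fin k → F) :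
    polar Q (g (cmb w (P' *ᵥ a))) (cmb w' (Pᵀ *ᵥ b)) = b ⬝ᵥ ((P * cor Q g w w' * P') *ᵥ a) := by
  rw [polar_g, mulVec_transpose, ← dotProduct_mulVec, mulVec_mulVec, mulVec_mulVec]

/-- the sub-frame -/
theorem frame3 (hf : Frame Q w w') (hPP : P * P' = 1) :
    Frame Q (fun j => cmb w (P' *ᵥ Pi.single (Sum.inl j) 1) : Fin 3 → V)
      (fun i => cmb w' (Pᵀ *ᵥ Pi.single (Sum.inl i) 1)) where
  sl _ := Q_cmb hf _
  sr _ := Q_cmb hf.symm _
  ll _ _ := polar_cmb_ll hf _ _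
  rr _ _ := polar_cmb_ll hf.symm _ _
  lr i j := by
    rw [polar_cmb hf, dot_PP hPP, dotProduct_single, mul_one, Pi.single_apply]
    simp [eq_comm]

/-- **The Schur complement of the sub-frame is nontrivial.** -/
theorem not_schurOne (hf : Frame Q w w') (hPP : P * P' = 1) (g : V ≃ₗ[F] V) {X : Matrix (Fin k) (Fin 3) F}
    {Y : Matrix (Fin 3) (Fin k) F} {A3 : Matrix (Fin 3) (Fin 3) F} {B : Matrix (Fin k) (Fin k) F}
    (hN : P * cor Q g w w' * P' = fromBlocks 1 0 X 1 * fromBlocks A3 0 0 B * fromBlocks 1 Y 0 1)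
    (hS : SchurOne Q g (fun j => cmb w (P' *ᵥ Pi.single (Sum.inl j) 1) : Fin 3 → V)
      (fun i => cmb w' (Pᵀ *ᵥ Pi.single (Sum.inl i) 1))) : B = 1 := by
  classical
  have key : ∀ j : Fin k, B *ᵥ Pi.single j 1 = Pi.single j 1 := by
    intro j
    obtain ⟨c, d, hcd⟩ := hS (cmb w (P' *ᵥ Pi.single (Sum.inr j) 1)) (fun i => by
      refine ⟨polar_cmb_ll hf _ _, ?_⟩
      rw [polar_comm, polar_cmb hf, dot_PP hPP, dotProduct_single, mul_one]
      simp)
    obtain ⟨z, hz⟩ : ∃ z : Fin 3 ⊕ Fin k → F, z = Sum.elim c (Pi.single j 1) := ⟨_, rfl⟩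
    have hzs : z = Pi.single (Sum.inr j) 1 + ∑ i, c i • Pi.single (Sum.inl i) 1 := by
      rw [hz]
      ext l
      rcases l with l | l
      · simp [Finset.sum_apply, Pi.single_apply]
      · simp [Finset.sum_apply, Pi.single_apply]
    have e1 : cmb w (P' *ᵥ Pi.single (Sum.inr j) 1) + ∑ i, c i • cmb w (P' *ᵥ Pi.single (Sum.inl i) 1) =
        cmb w (P' *ᵥ z) := by
      rw [hzs, mulVec_add, cmb_add]
      congr 1
      have : P' *ᵥ (∑ i, c i • Pi.single (Sum.inl i) 1) = ∑ i, c i • P' *ᵥ (Pi.single (Sum.inl i) 1) := by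
        rw [← Matrix.mulVecLin_apply, map_sum]
        simp only [map_smul, Matrix.mulVecLin_apply]
      rw [this, cmb_sum]
      simp only [cmb_smul]
    have e2 : ∑ i, d i • cmb w' (Pᵀ *ᵥ Pi.single (Sum.inl i) 1) = cmb w' (Pᵀ *ᵥ Sum.elim d 0) := by
      have h1 : Sum.elim d 0 = ∑ i, d i • (Pi.single (Sum.inl i) 1 : Fin 3 ⊕ Fin k → F) := by
        ext l
        rcases l with l | l
        · simp [Finset.sum_apply, Pi.single_apply]
        · simp [Finset.sum_apply, Pi.single_apply]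
      have : Pᵀ *ᵥ (∑ i, d i • Pi.single (Sum.inl i) 1) = ∑ i, d i • Pᵀ *ᵥ (Pi.single (Sum.inl i) 1) := by
        rw [← Matrix.mulVecLin_apply, map_sum]
        simp only [map_smul, Matrix.mulVecLin_apply]
      rw [h1, this, cmb_sum]
      simp only [cmb_smul]
    rw [e1, e2] at hcd
    have e3 : ∀ b, b ⬝ᵥ ((P * cor Q g w w' * P') *ᵥ z) = (Pi.single (Sum.inr j) 1 : Fin 3 ⊕ Fin k → F) ⬝ᵥ b := by
      intro b
      rw [← polar_g', hcd, polar_add_left, polar_cmb hf, dot_PP hPP, polar_cmb_ll hf.symm, add_zero]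
    have e4 : (P * cor Q g w w' * P') *ᵥ z = Pi.single (Sum.inr j) 1 := by
      ext l
      have := e3 (Pi.single l 1)
      rwa [single_dotProduct, one_mul, dotProduct_single, mul_one] at this
    rw [hN, ← mulVec_mulVec, ← mulVec_mulVec, hz] at e4
    rw [fromBlocks_mulVec, fromBlocks_mulVec, fromBlocks_mulVec] at e4
    have e5 : ∀ i, (A3 *ᵥ (c + Y *ᵥ Pi.single j 1)) i = 0 := by
      intro i
      have := congrFun e4 (Sum.inl i)
      simpa using this
    have e6 : A3 *ᵥ (c + Y *ᵥ Pi.single j 1) = 0 := funext e5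
    ext i
    have h7 := congrFun e4 (Sum.inr i)
    simp only [Sum.elim_comp_inl, Sum.elim_comp_inr, Sum.elim_inr, one_mulVec, zero_mulVec, add_zero, zero_add,
      Pi.add_apply] at h7
    rw [e6, mulVec_zero, Pi.zero_apply, zero_add] at h7
    rw [h7]
    simp [Pi.single_apply]
  ext i j
  have h1 := congrFun (key j) i
  rw [mulVec_single_one] at h1
  rw [← col_apply B, h1, one_apply, Pi.single_apply]

/-- the corner of the sub-frame -/
theorem corner3_eq (g : V ≃ₗ[F] V) {X : Matrix (Fin k) (Fin 3) F}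
    {Y : Matrix (Fin 3) (Fin k) F} {A3 : Matrix (Fin 3) (Fin 3) F} {B : Matrix (Fin k) (Fin k) F}
    (hN : P * cor Q g w w' * P' = fromBlocks 1 0 X 1 * fromBlocks A3 0 0 B * fromBlocks 1 Y 0 1) :
    corner Q g (fun j => cmb w (P' *ᵥ Pi.single (Sum.inl j) 1) : Fin 3 → V)
      (fun i => cmb w' (Pᵀ *ᵥ Pi.single (Sum.inl i) 1)) = A3 := by
  ext i j
  rw [corner_apply, polar_g', hN, single_dotProduct, one_mul, fromBlocks_multiply, fromBlocks_multiply]
  simp

end Sub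

/-- the matrix lemma (helper308) -/
def GLC (F : Type*) [Field F] (k : ℕ) : Prop :=
  ∀ A : Matrix (Fin 3 ⊕ Fin k) (Fin 3 ⊕ Fin k) F, (∀ c : F, A ≠ c • 1) → A.det ≠ 0 →
    ∃ (P P' : Matrix (Fin 3 ⊕ Fin k) (Fin 3 ⊕ Fin k) F) (X : Matrix (Fin k) (Fin 3) F)
      (Y : Matrix (Fin 3) (Fin k) F) (A3 : Matrix (Fin 3) (Fin 3) F) (B : Matrix (Fin k) (Fin k) F),
      P * P' = 1 ∧ P * A * P' = fromBlocks 1 0 X 1 * fromBlocks A3 0 0 B * fromBlocks 1 Y 0 1 ∧ A3.det = 1 ∧
        (∀ c : F, A3 ≠ c • 1) ∧ B.det = A.det ∧ (2 ≤ k → ∀ c : F, B ≠ c • 1)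

theorem glc [Finite F] {k : ℕ} (hk : 1 ≤ k) (h3 : ∃ c : F, c ≠ 0 ∧ c ≠ 1) : GLC F k := by
  intro A hA hdet
  have : Nonempty (Fin k) := ⟨⟨0, hk⟩⟩
  obtain ⟨X, Y, A3, B, ⟨P, P', g1, -, g3⟩, h1, h2, h4, h5⟩ := H308.TC.gl_corner h3 (A := A) hA hdet
  exact ⟨P, P', X, Y, A3, B, g1, g3, h1, h2, h4, fun h => h5 (Fin.nontrivial_iff_two_le.2 h)⟩

/-- **A frame of length `3` with nonscalar corner of determinant `1`, Schur complement `≠ 1`.** -/
theorem exists_frame3 [Finite F] [FiniteDimensional F V] (hQ : Nondeg Q) {g : V ≃ₗ[F] V}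
    (hg : g ∈ Om Q) (hs : ∀ c : F, ∃ v, g v ≠ c • v) {k : ℕ} (hk : 1 ≤ k) (hkF : k = 1 → 3 < Nat.card F)
    (hWm : ∀ W, MaxTS Q W → finrank F W = 3 + k) (hgl : GLC F k) :
    ∃ e e' : Fin 3 → V, Frame Q e e' ∧ ¬ SchurOne Q g e e' ∧ (corner Q g e e').det = 1 ∧
      ∀ c : F, corner Q g e e' ≠ c • 1 := by
  classical
  have := Fintype.ofFinite F
  -- the determinant
  obtain ⟨r, hr, hr1⟩ : ∃ r : F, r ≠ 0 ∧ (k = 1 → r * r ≠ 1) := by
    by_cases h : k = 1
    · have h3 := hkF h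
      rw [Nat.card_eq_fintype_card] at h3
      by_contra hcon
      push Not at hcon
      have h4 : (Finset.univ : Finset F) ⊆ {0, 1, -1} := by
        intro r _
        by_cases hr : r = 0
        · simp [hr]
        · have h5 := (hcon r hr).2
          rcases mul_self_eq_one_iff.1 h5 with h6 | h6
          · simp [h6]
          · simp [h6]
      have h5 := (Finset.card_le_card h4).trans Finset.card_le_three
      rw [Finset.card_univ] at h5
      omega
    · exact ⟨1, one_ne_zero, fun h' => absurd h' h⟩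
  obtain ⟨w, w', hf, hS, hdet, hns⟩ := nsCornerS hQ hg hs (by omega) hWm hr
  have e1 : (cor Q g w w').det = (corner Q g w w').det := det_submatrix_equiv_self _ _
  obtain ⟨P, P', X, Y, A3, B, hPP, hN, h3, h3n, hBd, hB⟩ := hgl (cor Q g w w') (fun c hc => hns c (by
    have h1 : corner Q g w w' = (cor Q g w w').submatrix finSumFinEquiv.symm finSumFinEquiv.symm := by
      rw [cor, submatrix_submatrix]
      simp
    rw [h1, hc]
    ext i j
    simp [one_apply])) (by rw [e1, hdet]; exact mul_ne_zero hr hr)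
  refine ⟨_, _, frame3 hf hPP, fun hSo => ?_, ?_, ?_⟩
  · have h4 := not_schurOne hf hPP g hN hSo
    rcases Nat.lt_or_ge k 2 with h5 | h5
    · rw [h4, det_one, e1, hdet] at hBd
      exact hr1 (by omega) hBd.symm
    · exact hB h5 1 (by rw [h4, one_smul])
  · rw [corner3_eq g hN, h3]
  · rw [corner3_eq g hN]
    exact h3n

end Cfsg.Agent.H140.TL
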