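import Cfsg.Agent.H141.SpinLev

/-!
# `Ω(Q)` in odd characteristic, dimension at least `3`: kernel of `det` and of the spinor sign

`Om_of_lev'` : `lev 1 g ∈ Ω(MQ n Q) → g ∈ Ω(Q)`, `2 ≠ 0`, `3 ≤ dim V`.
-/

set_option autoImplicit false
set_option linter.unusedSectionVars false

namespace Cfsg.Agent.H140.TL

open Module QuadraticMap Matrix Cfsg.Agent.LieClassical.OrthCore Cfsg.Agent.LieClassical.OrthTrans
  Cfsg.Agent.LieClassical.OrthFinite
open Cfsg.Agent.H140.OreO Cfsg.Agent.H141.SpinFacts Cfsg.Agent.H160.QSpin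

variable {F V : Type*} [Field F] [AddCommGroup V] [Module F V] {Q : QuadraticForm F V}

theorem exists_move (h2 : (2 : F) ≠ 0) {u v : V} (huv : Q u = Q v) (hv : Q v ≠ 0) :
    ∃ s ∈ Subgroup.closure (reflSet Q), s u = v ∧ ∀ x, polar Q u x = 0 → polar Q v x = 0 → s x = x := by
  by_cases h : Q (u - v) = 0
  · have h1 : Q (u - -v) ≠ 0 := by
      intro h0
      have h3 : Q (u - -v) + Q (u - v) = 2 * (Q u + Q v) := by
        rw [sub_neg_eq_add, sub_eq_add_neg, Q_add, Q_add, QuadraticMap.map_neg, polar_neg_right]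
        ring
      rw [h0, h, huv] at h3
      have h4 : (2 : F) * 2 * Q v = 0 := by linear_combination -h3
      exact (mul_ne_zero (mul_ne_zero h2 h2) hv) h4
    refine ⟨refl Q v hv * refl Q (u - -v) h1, Subgroup.mul_mem _ (Subgroup.subset_closure ⟨v, hv, rfl⟩)
      (Subgroup.subset_closure ⟨_, h1, rfl⟩), ?_, fun x hx hx' => ?_⟩
    · show refl Q v hv (refl Q (u - -v) h1 u) = v
      have h5 : refl Q (u - -v) h1 u = -v := refl_sub_apply (by rw [QuadraticMap.map_neg, huv]) h1
      have h6 : polar Q v v = 2 * Q v := by rw [polar_self', two_mul]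
      rw [h5, map_neg, refl_apply, h6, mul_left_comm, inv_mul_cancel₀ hv]
      module
    · show refl Q v hv (refl Q (u - -v) h1 x) = x
      rw [refl_apply h1, polar_sub_left, polar_neg_left, hx, hx', neg_zero, sub_zero, mul_zero, zero_smul, sub_zero,
        refl_apply, hx', mul_zero, zero_smul, sub_zero]
  · refine ⟨refl Q (u - v) h, Subgroup.subset_closure ⟨_, h, rfl⟩, refl_sub_apply huv.symm h, fun x hx hx' => ?_⟩
    rw [refl_apply, polar_sub_left, hx, hx', sub_zero, mul_zero, zero_smul, sub_zero]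

theorem exists_orth_basis [FiniteDimensional F V] (h2 : (2 : F) ≠ 0) (hQ : Nondeg Q) :
    ∃ b : Basis (Fin (finrank F V)) F V, (∀ i, Q (b i) ≠ 0) ∧ ∀ i j, i ≠ j → polar Q (b i) (b j) = 0 := by
  have : Invertible (2 : F) := invertibleOfNonzero h2
  have hs : LinearMap.IsSymm (polarBilin Q) := ⟨fun x y => by
    simp only [polarBilin_apply_apply, RingHom.id_apply]
    exact polar_comm (⇑Q) x y⟩
  have hnd : (polarBilin Q).Nondegenerate :=
    ⟨fun x h => hQ x h, fun y h => hQ y fun x => by rw [polar_comm]; exact h x⟩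
  obtain ⟨b, hb⟩ := LinearMap.BilinForm.exists_orthogonal_basis hs
  refine ⟨b, fun i hi => ?_, fun i j hij => ?_⟩
  · apply hb.not_isOrtho_basis_self_of_separatingLeft hnd.1 i
    rw [polarBilin_apply_apply, polar_self', hi, mul_zero]
  · have := hb hij
    simpa [Function.onFun] using this

theorem closure_refl [FiniteDimensional F V] (h2 : (2 : F) ≠ 0) (hQ : Nondeg Q) :
    O Q = Subgroup.closure (reflSet Q) := by
  classical
  have hle : Subgroup.closure (reflSet Q) ≤ O Q := by
    rw [Subgroup.closure_le]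
    rintro _ ⟨v, hv, rfl⟩
    exact refl_mem_O hv
  refine le_antisymm (fun g hg => ?_) hle
  obtain ⟨b, hb, hbo⟩ := exists_orth_basis h2 hQ
  have key : ∀ t : Finset (Fin (finrank F V)), ∃ s ∈ Subgroup.closure (reflSet Q), ∀ i ∈ t, (s * g) (b i) = b i := by
    intro t
    induction t using Finset.induction_on with
    | empty => exact ⟨1, Subgroup.one_mem _, fun i hi => absurd hi (Finset.notMem_empty i)⟩
    | insert a t ha ih =>
      obtain ⟨s, hs, hst⟩ := ih
      have hsg : s * g ∈ O Q := (O Q).mul_mem (hle hs) hg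
      obtain ⟨r, hr, hru, hrx⟩ := exists_move h2 (u := (s * g) (b a)) (v := b a) (mem_O.1 hsg _) (hb a)
      refine ⟨r * s, Subgroup.mul_mem _ hr hs, fun i hi => ?_⟩
      rw [mul_assoc]
      show r ((s * g) (b i)) = b i
      rcases Finset.mem_insert.1 hi with rfl | hi
      · exact hru
      · have hia : a ≠ i := fun h => ha (h ▸ hi)
        rw [hst i hi]
        apply hrx
        · conv_lhs => rw [← hst i hi]
          rw [polar_map hsg, hbo _ _ hia]
        · exact hbo _ _ hia
  obtain ⟨s, hs, hst⟩ := key Finset.univ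
  have h1 : s * g = 1 := by
    apply LinearEquiv.toLinearMap_injective
    exact b.ext fun i => hst i (Finset.mem_univ i)
  rw [eq_inv_of_mul_eq_one_right h1]
  exact Subgroup.inv_mem _ hs

theorem pj_conj {a b : O Q} : pj Q (a * b * a⁻¹) = pj Q b := by
  rw [map_mul, map_mul, map_inv, mul_comm (pj Q a), mul_assoc, mul_inv_cancel, mul_one]

theorem pj_rO_eq' (h2 : (2 : F) ≠ 0) {v v' : V} (hv : Q v ≠ 0) (hv' : Q v' ≠ 0)
    (h : ∃ c : F, Q v' = c * c * Q v) : pj Q (rO Q v hv) = pj Q (rO Q v' hv') := by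
  obtain ⟨c, hc⟩ := h
  have hc0 : c ≠ 0 := by
    rintro rfl
    exact hv' (by rw [hc]; ring)
  have h1 : Q (c • v) = Q v' := by rw [QuadraticMap.map_smul, smul_eq_mul, hc]
  have h3 : Q (c • v) ≠ 0 := by rw [h1]; exact hv'
  obtain ⟨s, hs, hsv, -⟩ := exists_move h2 h1 hv'
  have hle : Subgroup.closure (reflSet Q) ≤ O Q := by
    rw [Subgroup.closure_le]
    rintro _ ⟨v, hv, rfl⟩
    exact refl_mem_O hv
  have hsO := hle hs
  have h4 : Q (s (c • v)) ≠ 0 := by rw [hsv]; exact hv'
  have h5 := refl_conj hsO h3 h4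
  have h6 : rO Q v' hv' = ⟨s, hsO⟩ * rO Q v hv * ⟨s, hsO⟩⁻¹ := by
    apply Subtype.ext
    show refl Q v' hv' = s * refl Q v hv * s⁻¹
    rw [← refl_smul hv hc0 h3, h5]
    congr 1
    exact hsv.symm
  rw [h6, pj_conj]

theorem pj_mem' [FiniteDimensional F V] (h2 : (2 : F) ≠ 0) (hQ : Nondeg Q) (H : Subgroup (Abelianization (O Q)))
    (hH : ∀ (v : V) (hv : Q v ≠ 0), pj Q (rO Q v hv) ∈ H) (g : O Q) : pj Q g ∈ H := by
  have hcl := closure_refl h2 hQ
  have key : ∀ g ∈ Subgroup.closure (reflSet Q), ∀ hg : g ∈ O Q, pj Q ⟨g, hg⟩ ∈ H := by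
    intro g hgc
    induction hgc using Subgroup.closure_induction with
    | mem x hx =>
      intro hxO
      obtain ⟨v, hv, rfl⟩ := hx
      exact hH v hv
    | one =>
      intro h1
      have : (⟨1, h1⟩ : O Q) = 1 := rfl
      rw [this, map_one]
      exact H.one_mem
    | mul x y hx hy ihx ihy =>
      intro hxy
      have hx' : x ∈ O Q := by rw [hcl]; exact hx
      have hy' : y ∈ O Q := by rw [hcl]; exact hy
      have : (⟨x * y, hxy⟩ : O Q) = ⟨x, hx'⟩ * ⟨y, hy'⟩ := rfl
      rw [this, map_mul]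
      exact H.mul_mem (ihx hx') (ihy hy')
    | inv x hx ihx =>
      intro hxi
      have hx' : x ∈ O Q := by rw [hcl]; exact hx
      have : (⟨x⁻¹, hxi⟩ : O Q) = ⟨x, hx'⟩⁻¹ := rfl
      rw [this, map_inv]
      exact H.inv_mem (ihx hx')
  obtain ⟨g, hg⟩ := g
  exact key g (by rw [← hcl]; exact hg) hg

theorem exists_Q_eq' [Finite F] (hQ : Nondeg Q) (hd : 3 ≤ finrank F V) (c : F) : ∃ v, Q v = c := by
  have : Module.Finite F V := Module.finite_of_finrank_pos (by omega)
  obtain ⟨x, -, hx0, hx⟩ := exists_sing_mem (Q := Q) (⊤ : Submodule F V) (by rw [finrank_top]; exact hd)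
  obtain ⟨y, h⟩ := Cfsg.Agent.LieClassical.OrthTrans.exists_hyp hQ hx hx0
  refine ⟨x + c • y, ?_⟩
  rw [Q_add, h.left, QuadraticMap.map_smul, h.right, polar_smul_right, h.pair]
  simp

/-- **Odd characteristic, dimension `≥ 3`**: `Ω` is the kernel of `det` and the spinor sign. -/
theorem mem_Om_of_odd' [Finite F] [FiniteDimensional F V] [Finite V] (h2 : (2 : F) ≠ 0) (hQ : Nondeg Q)
    (hd : 3 ≤ finrank F V)
    {g : V ≃ₗ[F] V} (hg : g ∈ O Q) (hdet : LinearEquiv.det g = 1) (hs : spin Q ⟨g, hg⟩ = 1) :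
    g ∈ Om Q := by
  classical
  have := Fintype.ofFinite F
  obtain ⟨ν, hν⟩ : ∃ ν : F, ¬ IsSquare ν := FiniteField.exists_nonsquare (by
    intro h
    exact h2 (by have := ringChar.spec F 2; exact (this.2 (by rw [h])).symm ▸ (this.2 (by rw [h]))))
  have hν0 : ν ≠ 0 := by rintro rfl; exact hν (IsSquare.zero)
  obtain ⟨a, ha⟩ := exists_Q_eq' hQ hd 1
  obtain ⟨b, hb⟩ := exists_Q_eq' hQ hd ν
  have ha0 : Q a ≠ 0 := by rw [ha]; exact one_ne_zero
  have hb0 : Q b ≠ 0 := by rw [hb]; exact hν0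
  have h3 := pj_mem' h2 hQ (Subgroup.closure {pj Q (rO Q a ha0), pj Q (rO Q b hb0)}) (by
    intro v hv
    by_cases hsq : IsSquare (Q v)
    · obtain ⟨c, hc⟩ := hsq
      have : pj Q (rO Q v hv) = pj Q (rO Q a ha0) := (pj_rO_eq' h2 ha0 hv ⟨c, by
        rw [ha, hc, mul_one]⟩).symm
      rw [this]
      exact Subgroup.subset_closure (by simp)
    · have h5 : IsSquare (Q v * ν⁻¹) := by
        have h6 : chi (Q v * ν⁻¹) = 1 := by
          have h7 : chi ν⁻¹ * chi ν = 1 := by
            rw [← chi_mul (inv_ne_zero hν0) hν0, inv_mul_cancel₀ hν0, chi_eq_one_iff]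
            exact IsSquare.one
          have h8 : chi ν = -1 := by
            rcases Int.units_eq_one_or (chi ν) with h | h
            · exact absurd ((chi_eq_one_iff _).1 h) hν
            · exact h
          have h9 : chi (Q v) = -1 := by
            rcases Int.units_eq_one_or (chi (Q v)) with h | h
            · exact absurd ((chi_eq_one_iff _).1 h) hsq
            · exact h
          rw [chi_mul hv (inv_ne_zero hν0), h9]
          rw [h8] at h7
          rw [mul_comm]
          exact h7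
        exact (chi_eq_one_iff _).1 h6
      obtain ⟨c, hc⟩ := h5
      have : pj Q (rO Q v hv) = pj Q (rO Q b hb0) := (pj_rO_eq' h2 hb0 hv ⟨c, by
        rw [hb, ← hc, inv_mul_cancel_right₀ hν0]⟩).symm
      rw [this]
      exact Subgroup.subset_closure (by simp)) ⟨g, hg⟩
  rw [Subgroup.mem_closure_pair] at h3
  obtain ⟨m, k, hmk⟩ := h3
  -- the spinor sign
  have e1 : Abelianization.lift (spin Q) (pj Q (rO Q a ha0)) = -1 := by
    rw [Abelianization.lift_apply_of]
    have := spin_refl' h2 ha0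
    rw [ha, (chi_eq_one_iff (1 : F)).2 IsSquare.one] at this
    exact this
  have e2 : Abelianization.lift (spin Q) (pj Q (rO Q b hb0)) = 1 := by
    rw [Abelianization.lift_apply_of]
    have := spin_refl' h2 hb0
    have h8 : chi ν = -1 := by
      rcases Int.units_eq_one_or (chi ν) with h | h
      · exact absurd ((chi_eq_one_iff _).1 h) hν
      · exact h
    rw [hb, h8, neg_neg] at this
    exact this
  have e3 := congrArg (Abelianization.lift (spin Q)) hmk
  rw [map_mul, map_zpow, map_zpow, e1, e2, _root_.one_zpow, mul_one, Abelianization.lift_apply_of, hs] at e3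
  let dt : O Q →* Fˣ := LinearEquiv.det.comp (O Q).subtype
  have e4 : Abelianization.lift dt (pj Q (rO Q a ha0)) = -1 := by
    rw [Abelianization.lift_apply_of]
    exact det_refl ha0
  have e5 : Abelianization.lift dt (pj Q (rO Q b hb0)) = -1 := by
    rw [Abelianization.lift_apply_of]
    exact det_refl hb0
  have e6 := congrArg (Abelianization.lift dt) hmk
  rw [map_mul, map_zpow, map_zpow, e4, e5, Abelianization.lift_apply_of] at e6
  have e7 : dt ⟨g, hg⟩ = 1 := hdet
  rw [e7] at e6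
  have hm1 : (-1 : Fˣ) ≠ 1 := by
    intro h
    have h6 : (-1 : F) = 1 := by
      have := congrArg Units.val h
      simpa using this
    apply h2
    linear_combination (-1 : F) * h6
  have h4 : pj Q ⟨g, hg⟩ = 1 := by
    rw [← hmk]
    rcases zpow_eq_of_sq (pj_rO_sq ha0) m with ⟨hm, h⟩ | ⟨hm, h⟩
    · rcases zpow_eq_of_sq (pj_rO_sq hb0) k with ⟨hk, h'⟩ | ⟨hk, h'⟩
      · rw [h, h', one_mul]
      · exfalso
        rw [hm.neg_one_zpow, hk.neg_one_zpow, one_mul] at e6
        exact hm1 e6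
    · exfalso
      rw [hm.neg_one_zpow] at e3
      exact absurd e3 (by decide)
  exact (pj_eq_one_iff _).1 h4

/-- Membership in `Ω` can be tested in the model space, dimension `≥ 3`, odd characteristic. -/
theorem Om_of_lev' [Finite F] [FiniteDimensional F V] (h2 : (2 : F) ≠ 0) (hQ : Nondeg Q)
    (hd : 3 ≤ Module.finrank F V) {n : ℕ} {g : V ≃ₗ[F] V} (hg : g ∈ O Q)
    (h : lev (1 : GL (Fin n) F) g ∈ Om (MQ n Q)) : g ∈ Om Q := by
  have : Finite V := Module.finite_of_finite F
  have : Finite (M F V n) := inferInstance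
  have h3 := hom_eq_one (spin (MQ n Q)) h (comm_le h)
  have h4 := spin_levO (n := n) h2 hQ ⟨g, hg⟩
  have h5 : levO n Q ⟨g, hg⟩ = ⟨lev 1 g, comm_le h⟩ := rfl
  rw [h5, h3] at h4
  have h6 := det_eq_one h
  rw [det_lev] at h6
  exact mem_Om_of_odd' h2 hQ hd hg (by simpa using h6) h4.symm

end Cfsg.Agent.H140.TL
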