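import Cfsg.Agent.H140.TL.Frame3
import Cfsg.Agent.H140.TL.Small

/-!
# S2464, orthogonal groups of odd dimension: two fixed classes in a Levi subgroup `GL_n × O(perp)`

* `Cop.conj` : `Cop` is invariant under conjugation.
* `class_model` : the `O`-class of `lev X z` is an `Ω`-class, if some `T` commuting with `X` has nonsquare determinant.
* `twoOf_levi` : Levi subgroup of a maximal frame.
* `twoOf_three` : Levi subgroup `GL_3 × O(perp)`.
-/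

set_option autoImplicit false
set_option linter.unusedSectionVars false

namespace Cfsg.Agent.H140.TL

open Module QuadraticMap Matrix Cfsg.Agent.LieClassical.OrthCore Cfsg.Agent.LieClassical.OrthTrans
  Cfsg.Agent.LieClassical.OrthFinite Cfsg.Agent.H140.OreO Cfsg.Agent.H126.PwO Cfsg.Agent.H141.SpinFacts
  Cfsg.Agent.H160.QSpin Cfsg.Agent.H140.TC
open Cfsg.Agent.H434.Corn (MaxTS)

variable {F V : Type*} [Field F] [AddCommGroup V] [Module F V] {Q : QuadraticForm F V} {n : ℕ}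

/-! ### `Cop` is invariant under conjugation -/

theorem cop_aux {X P : GL (Fin n) F} (a : Fin n → F) :
    ((P * X * P⁻¹ : GL (Fin n) F) : Matrix (Fin n) (Fin n) F) *ᵥ ((P : Matrix (Fin n) (Fin n) F) *ᵥ a) =
      (P : Matrix (Fin n) (Fin n) F) *ᵥ ((X : Matrix (Fin n) (Fin n) F) *ᵥ a) := by
  rw [mulVec_mulVec, ← Units.val_mul, inv_mul_cancel_right, Units.val_mul, mulVec_mulVec]

theorem inj_of_comp {U W : Type*} [AddCommGroup U] [Module F U] [AddCommGroup W] [Module F W]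
    {f : U →ₗ[F] W} {p : U ≃ₗ[F] U} {s : W ≃ₗ[F] W}
    (h : (s : W →ₗ[F] W) ∘ₗ f ∘ₗ (p : U →ₗ[F] U) = 0) : f = 0 := by
  apply LinearMap.ext
  intro a
  have h1 := LinearMap.congr_fun h (p.symm a)
  have h2 : s (f (p (p.symm a))) = 0 := h1
  rw [LinearEquiv.apply_symm_apply] at h2
  exact s.map_eq_zero_iff.1 h2

theorem gle_apply' (A : GL (Fin n) F) (a : Fin n → F) : gle A a = (A : Matrix (Fin n) (Fin n) F) *ᵥ a := rfl

theorem ti_transpose (P : GL (Fin n) F) (a : Fin n → F) :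
    (P : Matrix (Fin n) (Fin n) F)ᵀ *ᵥ ((ti P : Matrix (Fin n) (Fin n) F) *ᵥ a) = a := by
  rw [mulVec_mulVec]
  have : (P : Matrix (Fin n) (Fin n) F)ᵀ * (ti P : Matrix (Fin n) (Fin n) F) = 1 := (ti P).inv_val
  rw [this, one_mulVec]

theorem _root_.Cfsg.Agent.H140.OreO.Cop.conj {X : GL (Fin n) F} {h : V ≃ₗ[F] V} (hc : Cop X h) (P : GL (Fin n) F)
    (s : V ≃ₗ[F] V) : Cop (P * X * P⁻¹) (s * h * s⁻¹) := by
  have hs : ∀ v, s⁻¹ ((s * h * s⁻¹) v) = h (s⁻¹ v) := by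
    intro v
    show s.symm (s (h (s.symm v))) = h (s.symm v)
    rw [LinearEquiv.symm_apply_apply]
  have hs' : ∀ v, (s * h * s⁻¹) (s v) = s (h v) := by
    intro v
    show s (h (s.symm (s v))) = s (h v)
    rw [LinearEquiv.symm_apply_apply]
  have hti : ti (P * X * P⁻¹) = ti P * ti X * (ti P)⁻¹ := by rw [ti_mul, ti_mul, ti_inv]
  -- `gle` of the transposes
  let pt : (Fin n → F) ≃ₗ[F] (Fin n → F) := gle (ti P)⁻¹
  have hpt : ∀ a, pt a = (P : Matrix (Fin n) (Fin n) F)ᵀ *ᵥ a := by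
    intro a
    apply (gle (ti P)).injective
    show (gle (ti P)) (gle (ti P)⁻¹ a) = _
    rw [gle_apply', gle_apply', gle_apply', mulVec_mulVec, ← Units.val_mul, mul_inv_cancel, Units.val_one,
      one_mulVec, mulVec_mulVec]
    have : (ti P : Matrix (Fin n) (Fin n) F) * (P : Matrix (Fin n) (Fin n) F)ᵀ = 1 := (ti P).val_inv
    rw [this, one_mulVec]
  have hpi : ∀ a, ((P⁻¹ : GL (Fin n) F) : Matrix (Fin n) (Fin n) F) *ᵥ
      (((P * X * P⁻¹ : GL (Fin n) F) : Matrix (Fin n) (Fin n) F) *ᵥ a) =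
      (X : Matrix (Fin n) (Fin n) F) *ᵥ (((P⁻¹ : GL (Fin n) F) : Matrix (Fin n) (Fin n) F) *ᵥ a) := by
    intro a
    rw [mulVec_mulVec, ← Units.val_mul, mulVec_mulVec, ← Units.val_mul]
    congr 2
    group
  have hti1 : ∀ a, ((ti (P * X * P⁻¹) : GL (Fin n) F) : Matrix (Fin n) (Fin n) F) *ᵥ
      ((ti P : Matrix (Fin n) (Fin n) F) *ᵥ a) =
      (ti P : Matrix (Fin n) (Fin n) F) *ᵥ ((ti X : Matrix (Fin n) (Fin n) F) *ᵥ a) := by
    intro a
    rw [hti]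
    exact cop_aux a
  have hti2 : ∀ a, (((ti P)⁻¹ : GL (Fin n) F) : Matrix (Fin n) (Fin n) F) *ᵥ
      ((ti (P * X * P⁻¹) : Matrix (Fin n) (Fin n) F) *ᵥ a) =
      (ti X : Matrix (Fin n) (Fin n) F) *ᵥ ((((ti P)⁻¹ : GL (Fin n) F) : Matrix (Fin n) (Fin n) F) *ᵥ a) := by
    intro a
    rw [hti, mulVec_mulVec, ← Units.val_mul, mulVec_mulVec, ← Units.val_mul]
    congr 2
    group
  have htd : ∀ a b : Fin n → F, a ⬝ᵥ ((((ti P)⁻¹ : GL (Fin n) F) : Matrix (Fin n) (Fin n) F) *ᵥ b) =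
      ((P : Matrix (Fin n) (Fin n) F) *ᵥ a) ⬝ᵥ b := by
    intro a b
    have h1 := dot_ti P a ((((ti P)⁻¹ : GL (Fin n) F) : Matrix (Fin n) (Fin n) F) *ᵥ b)
    rw [mulVec_mulVec _ (ti P : Matrix (Fin n) (Fin n) F), ← Units.val_mul, mul_inv_cancel, Units.val_one,
      one_mulVec] at h1
    exact h1.symm
  have htd' : ∀ a b : Fin n → F, a ⬝ᵥ (((P⁻¹ : GL (Fin n) F) : Matrix (Fin n) (Fin n) F) *ᵥ b) =
      ((ti P : Matrix (Fin n) (Fin n) F) *ᵥ a) ⬝ᵥ b := by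
    intro a b
    have h1 := dot_ti P (((P⁻¹ : GL (Fin n) F) : Matrix (Fin n) (Fin n) F) *ᵥ b) a
    rw [mulVec_mulVec, ← Units.val_mul, mul_inv_cancel, Units.val_one, one_mulVec] at h1
    rw [dotProduct_comm a, ← h1, dotProduct_comm]
  refine ⟨fun f hf => ?_, fun f hf => ?_, fun f h0 hf => ?_, fun f hf => ?_, fun f hf => ?_, fun f h0 hf => ?_⟩
  · apply inj_of_comp (p := gle P) (s := s⁻¹)
    apply hc.a
    intro a
    show s⁻¹ (f ((P : Matrix (Fin n) (Fin n) F) *ᵥ ((X : Matrix (Fin n) (Fin n) F) *ᵥ a))) =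
      h (s⁻¹ (f ((P : Matrix (Fin n) (Fin n) F) *ᵥ a)))
    rw [← cop_aux, hf, hs]
  · apply inj_of_comp (p := s) (s := gle (ti P)⁻¹)
    apply hc.b
    intro v
    show (((ti P)⁻¹ : GL (Fin n) F) : Matrix (Fin n) (Fin n) F) *ᵥ (f (s (h v))) =
      (ti X : Matrix (Fin n) (Fin n) F) *ᵥ ((((ti P)⁻¹ : GL (Fin n) F) : Matrix (Fin n) (Fin n) F) *ᵥ (f (s v)))
    rw [← hs', hf, hti2]
  · apply inj_of_comp (p := gle P) (s := gle (ti P)⁻¹)
    apply hc.c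
    · intro a
      show a ⬝ᵥ ((((ti P)⁻¹ : GL (Fin n) F) : Matrix (Fin n) (Fin n) F) *ᵥ
        (f ((P : Matrix (Fin n) (Fin n) F) *ᵥ a))) = 0
      rw [htd, h0]
    · intro a
      show (((ti P)⁻¹ : GL (Fin n) F) : Matrix (Fin n) (Fin n) F) *ᵥ
        (f ((P : Matrix (Fin n) (Fin n) F) *ᵥ ((X : Matrix (Fin n) (Fin n) F) *ᵥ a))) =
        (ti X : Matrix (Fin n) (Fin n) F) *ᵥ ((((ti P)⁻¹ : GL (Fin n) F) : Matrix (Fin n) (Fin n) F) *ᵥ
          (f ((P : Matrix (Fin n) (Fin n) F) *ᵥ a)))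
      rw [← cop_aux, hf, hti2]
  · apply inj_of_comp (p := gle (ti P)) (s := s⁻¹)
    apply hc.a'
    intro a
    show s⁻¹ (f ((ti P : Matrix (Fin n) (Fin n) F) *ᵥ ((ti X : Matrix (Fin n) (Fin n) F) *ᵥ a))) =
      h (s⁻¹ (f ((ti P : Matrix (Fin n) (Fin n) F) *ᵥ a)))
    rw [← hti1, hf, hs]
  · apply inj_of_comp (p := s) (s := gle P⁻¹)
    apply hc.b'
    intro v
    show ((P⁻¹ : GL (Fin n) F) : Matrix (Fin n) (Fin n) F) *ᵥ (f (s (h v))) =
      (X : Matrix (Fin n) (Fin n) F) *ᵥ (((P⁻¹ : GL (Fin n) F) : Matrix (Fin n) (Fin n) F) *ᵥ (f (s v)))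
    rw [← hs', hf, hpi]
  · apply inj_of_comp (p := gle (ti P)) (s := gle P⁻¹)
    apply hc.c'
    · intro a
      show a ⬝ᵥ (((P⁻¹ : GL (Fin n) F) : Matrix (Fin n) (Fin n) F) *ᵥ
        (f ((ti P : Matrix (Fin n) (Fin n) F) *ᵥ a))) = 0
      rw [htd', h0]
    · intro a
      show ((P⁻¹ : GL (Fin n) F) : Matrix (Fin n) (Fin n) F) *ᵥ
        (f ((ti P : Matrix (Fin n) (Fin n) F) *ᵥ ((ti X : Matrix (Fin n) (Fin n) F) *ᵥ a))) =
        (X : Matrix (Fin n) (Fin n) F) *ᵥ (((P⁻¹ : GL (Fin n) F) : Matrix (Fin n) (Fin n) F) *ᵥ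
          (f ((ti P : Matrix (Fin n) (Fin n) F) *ᵥ a)))
      rw [← hti1, hf, hpi]

/-! ### the classes are invariant under the whole orthogonal group -/

theorem det_neg_one {U : Type*} [AddCommGroup U] [Module F U] [FiniteDimensional F U] (hodd : Odd (finrank F U)) :
    LinearEquiv.det (LinearEquiv.neg F : U ≃ₗ[F] U) = -1 := by
  apply Units.ext
  rw [LinearEquiv.coe_det]
  have h1 : ((LinearEquiv.neg F : U ≃ₗ[F] U) : U →ₗ[F] U) = (-1 : F) • LinearMap.id := by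
    ext v
    simp
  rw [h1, LinearMap.det_smul, LinearMap.det_id, mul_one, hodd.neg_one_pow, Units.val_neg, Units.val_one]

theorem neg_mem_O : (LinearEquiv.neg F : V ≃ₗ[F] V) ∈ O Q := fun v => by
  show Q (-v) = Q v
  rw [QuadraticMap.map_neg]

/-- **The `O`-class of `x₀` is an `Ω`-class.** -/
theorem class_of_cen [Finite F] [Finite V] [FiniteDimensional F V] (h2 : (2 : F) ≠ 0) (hQ : Nondeg Q)
    (hodd : Odd (finrank F V)) (hd : 3 ≤ finrank F V) {x₀ : V ≃ₗ[F] V} (hx₀ : x₀ ∈ O Q)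
    {t : V ≃ₗ[F] V} (ht : t ∈ O Q) (htx : t * x₀ = x₀ * t) (htd : LinearEquiv.det t = 1)
    (hts : spin Q ⟨t, ht⟩ = -1) {S : V ≃ₗ[F] V} (hS : S ∈ O Q) :
    ∃ u ∈ Om Q, S * x₀ * S⁻¹ = u * x₀ * u⁻¹ := by
  let C : Subgroup (O Q) := Subgroup.centralizer {⟨x₀, hx₀⟩}
  have hC : ∀ h : O Q, h ∈ C ↔ x₀ * (h : V ≃ₗ[F] V) = h * x₀ := by
    intro h
    rw [Subgroup.mem_centralizer_singleton_iff]
    constructor
    · intro h1
      exact (congrArg Subtype.val h1).symm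
    · intro h1
      exact Subtype.ext h1.symm
  -- the central element `-1`
  let N : O Q := ⟨LinearEquiv.neg F, neg_mem_O⟩
  have hNC : N ∈ C := by
    rw [hC]
    apply LinearEquiv.ext
    intro v
    show x₀ (-v) = -(x₀ v)
    rw [map_neg]
  have hTC : (⟨t, ht⟩ : O Q) ∈ C := by rw [hC]; exact htx.symm
  have key := pj_mem' h2 hQ (C.map (pj Q)) (fun v hv => by
    -- an element of `C` of determinant `-1` and given spinor sign
    obtain ⟨k, hk, hkd, hks⟩ : ∃ k ∈ C, LinearEquiv.det (k : V ≃ₗ[F] V) = -1 ∧ spin Q k = spin Q (rO Q v hv) := by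
      by_cases h : spin Q N = spin Q (rO Q v hv)
      · exact ⟨N, hNC, det_neg_one hodd, h⟩
      · refine ⟨N * ⟨t, ht⟩, C.mul_mem hNC hTC, ?_, ?_⟩
        · show LinearEquiv.det ((LinearEquiv.neg F : V ≃ₗ[F] V) * t) = -1
          rw [map_mul, htd, mul_one, det_neg_one hodd]
        · rw [map_mul, hts]
          rcases Int.units_eq_one_or (spin Q N) with h1 | h1 <;>
            rcases Int.units_eq_one_or (spin Q (rO Q v hv)) with h3 | h3
          · exact absurd (h1.trans h3.symm) h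
          · rw [h1, h3, one_mul]
          · rw [h1, h3]; rfl
          · exact absurd (h1.trans h3.symm) h
    refine ⟨k, hk, ?_⟩
    have h4 : pj Q (k * (rO Q v hv)⁻¹) = 1 := by
      rw [pj_eq_one_iff]
      refine mem_Om_of_odd' h2 hQ hd (k * (rO Q v hv)⁻¹).2 ?_ ?_
      · show LinearEquiv.det ((k : V ≃ₗ[F] V) * (refl Q v hv)⁻¹) = 1
        rw [map_mul, map_inv, hkd, det_refl hv]
        simp
      · show spin Q (k * (rO Q v hv)⁻¹) = 1
        rw [map_mul, map_inv, hks, mul_inv_cancel]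
    rw [map_mul, map_inv, mul_inv_eq_one] at h4
    exact h4) ⟨S, hS⟩
  obtain ⟨h, hhC, hh⟩ := key
  have h1 : x₀ * (h : V ≃ₗ[F] V) = h * x₀ := (hC h).1 hhC
  have h3 : pj Q (⟨S, hS⟩ * h⁻¹) = 1 := by
    rw [map_mul, map_inv, hh, mul_inv_cancel]
  rw [pj_eq_one_iff] at h3
  refine ⟨S * (h : V ≃ₗ[F] V)⁻¹, h3, ?_⟩
  have h5 : (h : V ≃ₗ[F] V)⁻¹ * x₀ * h = x₀ := by rw [mul_assoc, h1, ← mul_assoc, inv_mul_cancel, one_mul]
  conv_lhs => rw [← h5]
  group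

theorem finrank_M [FiniteDimensional F V] : finrank F (M F V n) = finrank F V + 2 * n := by
  rw [Module.finrank_prod, Module.finrank_prod, Module.finrank_fin_fun]
  ring

/-- in the model space: `x₀ = lev X z` -/
theorem class_model [Finite F] [FiniteDimensional F V] (h2 : (2 : F) ≠ 0) (hQ : Nondeg Q)
    (hodd : Odd (finrank F V)) (hn : 1 ≤ n) {X T : GL (Fin n) F} (hTX : T * X = X * T)
    (hT : ¬ IsSquare (T : Matrix (Fin n) (Fin n) F).det) {z : V ≃ₗ[F] V} (hz : z ∈ O Q)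
    {S : M F V n ≃ₗ[F] M F V n} (hS : S ∈ O (MQ n Q)) :
    ∃ u ∈ Om (MQ n Q), S * lev X z * S⁻¹ = u * lev X z * u⁻¹ := by
  have : Finite V := Module.finite_of_finite F
  have h1 := finrank_M (F := F) (V := V) (n := n)
  have h3 : Odd (finrank F (M F V n)) := by
    rw [h1]
    exact hodd.add_even (even_two_mul n)
  have hpos := hodd.pos
  have : Finite (M F V n) := inferInstance
  refine class_of_cen h2 (nondeg_MQ hQ) h3 (by omega) (lev_mem hz) (t := lev T 1) (lev_mem (O Q).one_mem) ?_ ?_ ?_ hS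
  · rw [← lev_mul, ← lev_mul, hTX, one_mul, mul_one]
  · rw [det_lev, map_one]
  · have h4 := spin_levGL (n := n) (Q := Q) h2 T
    have h5 : levGL n Q T = ⟨lev T 1, lev_mem (O Q).one_mem⟩ := rfl
    rw [h5] at h4
    rw [h4]
    rcases Int.units_eq_one_or (chi (T : Matrix (Fin n) (Fin n) F).det) with h | h
    · exact absurd ((chi_eq_one_iff _).1 h) hT
    · exact h

/-! ### the engine -/

/-- transport to another frame -/
theorem transport {e e' w w' : Fin n → V} {T g g' : V ≃ₗ[F] V} (hT : T ∈ O Q) (hTl : ∀ i, T (e i) = w i)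
    (hTr : ∀ i, T (e' i) = w' i) (hg' : g' = T⁻¹ * g * T) :
    corner Q g' e e' = corner Q g w w' ∧ (SchurOne Q g' e e' ↔ SchurOne Q g w w') := by
  have hg'a : ∀ v, T (g' v) = g (T v) := by
    intro v
    rw [hg']
    exact T.apply_symm_apply _
  have hperp : ∀ v, T v ∈ perp Q w w' ↔ v ∈ perp Q e e' := by
    intro v
    rw [mem_perp, mem_perp]
    refine forall_congr' fun i => ?_
    rw [← hTl, ← hTr, polar_map hT, polar_map hT]
  have e1 : ∀ (v : V) (c : Fin n → F), T (v + ∑ i, c i • e i) = T v + ∑ i, c i • w i := by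
    intro v c
    rw [map_add, map_sum]
    simp only [map_smul, hTl]
  have e2 : ∀ (v : V) (c : Fin n → F), T (v + ∑ i, c i • e' i) = T v + ∑ i, c i • w' i := by
    intro v c
    rw [map_add, map_sum]
    simp only [map_smul, hTr]
  refine ⟨?_, fun hS v hv => ?_, fun hS v hv => ?_⟩
  · ext i j
    rw [corner_apply, corner_apply, ← polar_map hT, hg'a, hTl, hTr]
  · obtain ⟨u, rfl⟩ := T.surjective v
    obtain ⟨c, d, hcd⟩ := hS u ((hperp u).1 hv)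
    refine ⟨c, d, ?_⟩
    have h1 := congrArg T hcd
    rwa [hg'a, e1, e2] at h1
  · obtain ⟨c, d, hcd⟩ := hS (T v) ((hperp v).2 hv)
    refine ⟨c, d, ?_⟩
    apply T.injective
    rwa [hg'a, e1, e2]

section Fin

variable [Finite F] [FiniteDimensional F V]

/-- **The core.** -/
theorem core {e e' : Fin n → V} (hf : Frame Q e e') {g : V ≃ₗ[F] V} (hg : g ∈ O Q) {X₀ Y₀ : GL (Fin n) F}
    {x y : perp Q e e' ≃ₗ[F] perp Q e e'} (hx : x ∈ O (res Q e e')) (hy : y ∈ O (res Q e e')) (hc1 : Cop X₀ x)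
    (hc2 : Cop Y₀ y) (A P R : GL (Fin n) F) (hA : (A : Matrix (Fin n) (Fin n) F) = corner Q g e e')
    (hPR : A = (P * X₀ * P⁻¹) * (R * Y₀ * R⁻¹))
    (hg₁ : ∀ u₁ ∈ Um n (res Q e e'), ∀ u₂ ∈ Up n (res Q e e'), ∀ g₁ ∈ O (res Q e e'),
      autE hf.toModel g = u₁ * lev A g₁ * u₂ →
      ∃ a ∈ O (res Q e e'), ∃ b ∈ O (res Q e e'), g₁ = (a * x * a⁻¹) * (b * y * b⁻¹)) :
    ∃ s₁ ∈ O (MQ n (res Q e e')), ∃ s₂ ∈ O (MQ n (res Q e e')),
      autE hf.toModel g = (s₁ * lev X₀ x * s₁⁻¹) * (s₂ * lev Y₀ y * s₂⁻¹) := by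
  have he : ∀ v, MQ n (res Q e e') (hf.toModel v) = Q v := hf.MQ_toModel
  obtain ⟨u₁, hu₁, g₁, hg₁', u₂, hu₂, edec⟩ := decomp ((autE_mem_O he).2 hg) A (fun a => by
    rw [corner_model, hA])
  obtain ⟨a, ha, b, hb, hab⟩ := hg₁ u₁ hu₁ u₂ hu₂ g₁ hg₁' edec
  obtain ⟨v₁, hv₁, v₂, hv₂, e2⟩ := stepPr hu₁ hu₂ hPR hab ((O _).mul_mem ((O _).mul_mem ha hx) ((O _).inv_mem ha))
    ((O _).mul_mem ((O _).mul_mem hb hy) ((O _).inv_mem hb)) (hc1.conj P a) (hc2.conj R b)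
  have e3 : ∀ (Z W : GL (Fin n) F) (c z : perp Q e e' ≃ₗ[F] perp Q e e'),
      lev (Z * W * Z⁻¹) (c * z * c⁻¹) = lev Z c * lev W z * (lev Z c)⁻¹ := by
    intro Z W c z
    rw [← lev_inv, ← lev_mul, ← lev_mul]
  rw [e3, e3] at e2
  refine ⟨v₁ * lev P a, (O _).mul_mem (Om_le hv₁) (lev_mem ha), v₂ * lev R b,
    (O _).mul_mem (Om_le hv₂) (lev_mem hb), ?_⟩
  rw [edec, e2]
  group

/-- from the model space back to `V` -/
theorem back {e e' : Fin n → V} (hf : Frame Q e e') {T g g' : V ≃ₗ[F] V} (hT : T ∈ O Q)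
    (hg' : g' = T⁻¹ * g * T) {x₀ y₀ : M F (perp Q e e') n ≃ₗ[F] M F (perp Q e e') n}
    (hcx : ∀ S ∈ O (MQ n (res Q e e')), ∃ u ∈ Om (MQ n (res Q e e')), S * x₀ * S⁻¹ = u * x₀ * u⁻¹)
    (hcy : ∀ S ∈ O (MQ n (res Q e e')), ∃ u ∈ Om (MQ n (res Q e e')), S * y₀ * S⁻¹ = u * y₀ * u⁻¹)
    (h : ∃ s₁ ∈ O (MQ n (res Q e e')), ∃ s₂ ∈ O (MQ n (res Q e e')),
      autE hf.toModel g' = (s₁ * x₀ * s₁⁻¹) * (s₂ * y₀ * s₂⁻¹)) :
    ∃ u ∈ Om Q, ∃ v ∈ Om Q,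
      g = (u * (autE hf.toModel).symm x₀ * u⁻¹) * (v * (autE hf.toModel).symm y₀ * v⁻¹) := by
  have he : ∀ v, MQ n (res Q e e') (hf.toModel v) = Q v := hf.MQ_toModel
  obtain ⟨s₁, hs₁, s₂, hs₂, hs⟩ := h
  obtain ⟨t, ht⟩ : ∃ t, t = autE hf.toModel T := ⟨_, rfl⟩
  have htO : t ∈ O (MQ n (res Q e e')) := by rw [ht]; exact (autE_mem_O he).2 hT
  obtain ⟨u, hu, eu⟩ := hcx (t * s₁) ((O _).mul_mem htO hs₁)
  obtain ⟨v, hv, ev⟩ := hcy (t * s₂) ((O _).mul_mem htO hs₂)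
  obtain ⟨u', rfl⟩ := (autE hf.toModel).surjective u
  obtain ⟨v', rfl⟩ := (autE hf.toModel).surjective v
  refine ⟨u', (autE_mem_Om he).1 hu, v', (autE_mem_Om he).1 hv, ?_⟩
  apply (autE hf.toModel).injective
  have e1 : g = T * g' * T⁻¹ := by rw [hg']; group
  rw [e1, map_mul, map_mul, map_inv, hs, map_mul, map_mul, map_mul, map_mul, map_mul, map_inv, map_inv,
    MulEquiv.apply_symm_apply, MulEquiv.apply_symm_apply, ← eu, ← ev, ht]
  group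

/-- **Two fixed classes, maximal frame.** -/
theorem twoOf_levi (h2 : (2 : F) ≠ 0) (hQ : Nondeg Q) (hodd : Odd (finrank F V)) (hn : 3 ≤ n)
    (hW : ∀ W, MaxTS Q W → finrank F W = n) {e e' : Fin n → V} (hf : Frame Q e e') {X₀ Y₀ : GL (Fin n) F}
    (hL : ∀ A : GL (Fin n) F, (A : Matrix (Fin n) (Fin n) F).det = 1 →
      (∀ c : F, (A : Matrix (Fin n) (Fin n) F) ≠ c • 1) →
      ∃ P R : GL (Fin n) F, A = (P * X₀ * P⁻¹) * (R * Y₀ * R⁻¹))
    {x : perp Q e e' ≃ₗ[F] perp Q e e'} (hx : x ∈ O (res Q e e')) (hc1 : Cop X₀ x) (hc2 : Cop Y₀ x⁻¹)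
    {T T' : GL (Fin n) F} (hTX : T * X₀ = X₀ * T) (hT : ¬ IsSquare (T : Matrix (Fin n) (Fin n) F).det)
    (hTY : T' * Y₀ = Y₀ * T') (hT' : ¬ IsSquare (T' : Matrix (Fin n) (Fin n) F).det) :
    TwoOf Q ((autE hf.toModel).symm (lev X₀ x)) ((autE hf.toModel).symm (lev Y₀ x⁻¹)) := by
  intro g hg hns
  obtain ⟨w, w', hfw, hS, hAdet, hA⟩ := nsCornerS hQ hg hns hn hW (one_ne_zero (α := F))
  obtain ⟨S, hSO, hSl, hSr⟩ := frame_trans hQ hf hfw
  obtain ⟨g', hg'⟩ : ∃ g', g' = S⁻¹ * g * S := ⟨_, rfl⟩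
  have hgO : g ∈ O Q := Om_le hg
  have hg'O : g' ∈ O Q := by
    rw [hg']
    exact (O Q).mul_mem ((O Q).mul_mem ((O Q).inv_mem hSO) hgO) hSO
  obtain ⟨hcor, hsch⟩ := transport hSO hSl hSr hg'
  have hS' := hsch.2 hS
  have hfr := hf.finrank_perp
  have hodd' : Odd (finrank F (perp Q e e')) := by
    rw [← hfr] at hodd
    rwa [Nat.odd_add, iff_true_right (even_two_mul n)] at hodd
  have hnd := hf.nondeg_res hQ
  have hd1 : (corner Q g w w').det ≠ 0 := by rw [hAdet, mul_one]; exact one_ne_zero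
  obtain ⟨A, hAe⟩ : ∃ A : GL (Fin n) F, (A : Matrix _ _ F) = corner Q g w w' :=
    ⟨Matrix.GeneralLinearGroup.mkOfDetNeZero _ hd1, rfl⟩
  obtain ⟨P, R, hPR⟩ := hL A (by rw [hAe, hAdet, mul_one]) (by rw [hAe]; exact hA)
  have hxi := (O (res Q e e')).inv_mem hx
  refine back hf hSO hg' (fun S hS => class_model h2 hnd hodd' (by omega) hTX hT hx hS)
    (fun S hS => class_model h2 hnd hodd' (by omega) hTY hT' hxi hS)
    (core hf hg'O hx hxi hc1 hc2 A P R (by rw [hAe, hcor]) hPR (fun u₁ hu₁ u₂ hu₂ g₁ hg₁ hdec => ?_))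
  have h1 : g₁ = 1 := by
    apply LinearEquiv.ext
    intro v
    obtain ⟨c, d, hcd⟩ := schur_model hf hS' v
    exact schur_one_of hu₁ hu₂ hdec hcd
  refine ⟨1, (O _).one_mem, 1, (O _).one_mem, ?_⟩
  rw [h1]
  group

/-- **Two fixed classes, frame of length `3`.** -/
theorem twoOf_three (h2 : (2 : F) ≠ 0) (hQ : Nondeg Q) (hodd : Odd (finrank F V)) {k : ℕ} (hk : 1 ≤ k)
    (hkF : k = 1 → 3 < Nat.card F) (hW : ∀ W, MaxTS Q W → finrank F W = 3 + k)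
    (hdim : 9 ≤ finrank F V) {e e' : Fin 3 → V} (hf : Frame Q e e') {X₀ Y₀ : GL (Fin 3) F}
    (hL : ∀ A : GL (Fin 3) F, (A : Matrix (Fin 3) (Fin 3) F).det = 1 →
      (∀ c : F, (A : Matrix (Fin 3) (Fin 3) F) ≠ c • 1) →
      ∃ P R : GL (Fin 3) F, A = (P * X₀ * P⁻¹) * (R * Y₀ * R⁻¹))
    {x y : perp Q e e' ≃ₗ[F] perp Q e e'} (hx : x ∈ O (res Q e e')) (hy : y ∈ O (res Q e e'))
    (hM : ∀ z ∈ Om (res Q e e'), z ≠ 1 → ∃ a ∈ O (res Q e e'), ∃ b ∈ O (res Q e e'),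
      z = (a * x * a⁻¹) * (b * y * b⁻¹))
    (hc1 : Cop X₀ x) (hc2 : Cop Y₀ y)
    {T T' : GL (Fin 3) F} (hTX : T * X₀ = X₀ * T) (hT : ¬ IsSquare (T : Matrix (Fin 3) (Fin 3) F).det)
    (hTY : T' * Y₀ = Y₀ * T') (hT' : ¬ IsSquare (T' : Matrix (Fin 3) (Fin 3) F).det) :
    TwoOf Q ((autE hf.toModel).symm (lev X₀ x)) ((autE hf.toModel).symm (lev Y₀ y)) := by
  intro g hg hns
  have he : ∀ v, MQ 3 (res Q e e') (hf.toModel v) = Q v := hf.MQ_toModel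
  have hF3 : ∃ c : F, c ≠ 0 ∧ c ≠ 1 := ⟨-1, neg_ne_zero.2 one_ne_zero, fun h => h2 (by linear_combination -h)⟩
  obtain ⟨w, w', hfw, hS, hAdet, hA⟩ := exists_frame3 hQ hg hns hk hkF hW (glc hk hF3)
  obtain ⟨S, hSO, hSl, hSr⟩ := frame_trans hQ hf hfw
  obtain ⟨g', hg'⟩ : ∃ g', g' = S⁻¹ * g * S := ⟨_, rfl⟩
  have hgO : g ∈ O Q := Om_le hg
  have hg'O : g' ∈ O Q := by
    rw [hg']
    exact (O Q).mul_mem ((O Q).mul_mem ((O Q).inv_mem hSO) hgO) hSO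
  have hg'Om : g' ∈ Om Q := by
    have h1 := conj_mem_Om (a := S⁻¹) ((O Q).inv_mem hSO) hg
    rw [inv_inv] at h1
    rwa [hg']
  obtain ⟨hcor, hsch⟩ := transport hSO hSl hSr hg'
  have hS' : ¬ SchurOne Q g' e e' := fun h => hS (hsch.1 h)
  have hfr := hf.finrank_perp
  have hodd' : Odd (finrank F (perp Q e e')) := by
    rw [← hfr] at hodd
    rwa [Nat.odd_add, iff_true_right (even_two_mul 3)] at hodd
  have hnd := hf.nondeg_res hQ
  have hd1 : (corner Q g w w').det ≠ 0 := by rw [hAdet]; exact one_ne_zero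
  obtain ⟨A, hAe⟩ : ∃ A : GL (Fin 3) F, (A : Matrix _ _ F) = corner Q g w w' :=
    ⟨Matrix.GeneralLinearGroup.mkOfDetNeZero _ hd1, rfl⟩
  obtain ⟨P, R, hPR⟩ := hL A (by rw [hAe, hAdet]) (by rw [hAe]; exact hA)
  have hG : Good (MQ 3 (res Q e e')) := good_of_finite (nondeg_MQ hnd) (by
    rw [finrank_M]; omega)
  refine back hf hSO hg' (fun S hS => class_model h2 hnd hodd' (by omega) hTX hT hx hS)
    (fun S hS => class_model h2 hnd hodd' (by omega) hTY hT' hy hS)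
    (core hf hg'O hx hy hc1 hc2 A P R (by rw [hAe, hcor]) hPR (fun u₁ hu₁ u₂ hu₂ g₁ hg₁ hdec => ?_))
  apply hM
  · refine Om_of_lev' h2 hnd (by omega) (n := 3) hg₁ ?_
    have k0 : u₁ * lev A g₁ * u₂ ∈ Om (MQ 3 (res Q e e')) := by
      rw [← hdec]
      exact (autE_mem_Om he).2 hg'Om
    have k1 : u₁ ∈ Om (MQ 3 (res Q e e')) := by
      obtain ⟨v, hv, -, e1⟩ := hc1.exists_um hx hu₁
      have e2 : u₁ = v * lev X₀ x * v⁻¹ * (lev X₀ x)⁻¹ := by rw [← e1]; group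
      rw [e2]
      exact comm_mem_Om hv.1 (lev_mem hx)
    have k2 : u₂ ∈ Om (MQ 3 (res Q e e')) := by
      obtain ⟨v, hv, -, e1⟩ := hc1.exists_up hx hu₂
      have e2 : u₂ = v * lev X₀ x * v⁻¹ * (lev X₀ x)⁻¹ := by rw [← e1]; group
      rw [e2]
      exact comm_mem_Om hv.1 (lev_mem hx)
    have k3 : lev A (1 : perp Q e e' ≃ₗ[F] perp Q e e') ∈ Om (MQ 3 (res Q e e')) :=
      lev_det_one_mem hG (by rw [hAe, hAdet])
    have e5 : lev (1 : GL (Fin 3) F) g₁ = (lev A 1)⁻¹ * (u₁⁻¹ * (u₁ * lev A g₁ * u₂) * u₂⁻¹) := by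
      have e6 : lev A g₁ = lev A 1 * lev (1 : GL (Fin 3) F) g₁ := by rw [← lev_mul, mul_one, one_mul]
      rw [e6]
      group
    rw [e5]
    exact (Om _).mul_mem ((Om _).inv_mem k3) ((Om _).mul_mem ((Om _).mul_mem ((Om _).inv_mem k1) k0)
      ((Om _).inv_mem k2))
  · intro h1
    apply hS'
    rw [schurOne_iff hf hu₁ hu₂ (g := g') (A := A) (g₁ := g₁) hdec]
    exact h1

end Fin

end Cfsg.Agent.H140.TL
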