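import Cfsg.Agent.H538.TC.SLThreeC
import Cfsg.Agent.H781.TC6.Def

/-!
# S2464, `Ω₇(q)`, `q` odd: the cubic polynomial and the factorisation theorem (helper140)

`gf_three` : a good cubic `f` with `TLf 3 f`, from helper538's theorem on `SL₃(q)`.
-/

set_option autoImplicit false

namespace Cfsg.Agent.H140.TL

open Matrix Polynomial
open Cfsg.Agent.H126.M3 (cu charpoly_three)
open Cfsg.Agent.H538.TC Cfsg.Agent.H781.TC6

variable {F : Type*} [Field F]

theorem no_root {s r : F} (hirr : Irreducible (cu s r)) (x : F) : (cu s r).eval x ≠ 0 := by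
  intro hx
  have h1 := Polynomial.degree_eq_one_of_irreducible_of_root hirr hx
  have h2 : (cu s r).degree = 3 := by
    have hc := CoS_charpoly s r
    rw [← hc, Matrix.charpoly_degree_eq_dim]
    rfl
  rw [h2] at h1
  exact absurd h1 (by norm_num)

theorem cu_eval (s r x : F) : (cu s r).eval x = x ^ 3 - s * x ^ 2 + r * x - 1 := by
  simp [cu]

theorem cu_coeff_zero (s r : F) : (cu s r).coeff 0 = -1 := by
  simp [cu]

theorem cu_natDegree (s r : F) : (cu s r).natDegree = 3 := by
  have hc := CoS_charpoly s r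
  rw [← hc, Matrix.charpoly_natDegree_eq_dim]
  rfl

/-- a reciprocal relation gives a root -/
theorem cu_cop {s r : F} (hirr : Irreducible (cu s r)) : IsCoprime (cu s r) (cu s r).reverse := by
  rw [hirr.coprime_iff_not_dvd]
  rintro ⟨g, hg⟩
  have hd := cu_natDegree s r
  have h0 := cu_coeff_zero s r
  have hne : cu s r ≠ 0 := hirr.ne_zero
  have hrd : (cu s r).reverse.natDegree = 3 := by
    rw [reverse_natDegree, hd]
    have : (cu s r).natTrailingDegree = 0 := by
      rw [natTrailingDegree_eq_zero]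
      right
      rw [h0]
      exact neg_ne_zero.2 one_ne_zero
    rw [this]
  have hg0 : g ≠ 0 := by
    rintro rfl
    rw [mul_zero] at hg
    rw [hg, natDegree_zero] at hrd
    omega
  have hgd : g.natDegree = 0 := by
    have := natDegree_mul hne hg0
    rw [← hg, hrd, hd] at this
    omega
  obtain ⟨u, rfl⟩ : ∃ u, g = C u := ⟨_, eq_C_of_natDegree_eq_zero hgd⟩
  have hc : ∀ i, (cu s r).reverse.coeff i = (cu s r).coeff i * u := fun i => by rw [hg, coeff_mul_C]
  have h3 := hc 0
  rw [coeff_zero_reverse, h0] at h3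
  have hm : (cu s r).Monic := by rw [← CoS_charpoly s r]; exact Matrix.charpoly_monic _
  rw [hm.leadingCoeff] at h3
  have hu : u = -1 := by linear_combination h3
  have h4 := hc 1
  rw [coeff_reverse, hd, revAt_le (by norm_num)] at h4
  norm_num at h4
  have h5 : (cu s r).coeff 2 = -s := by rw [cu, c3_two]
  have h6 : (cu s r).coeff 1 = r := by rw [cu, c3_one]
  rw [h5, h6, hu] at h4
  apply no_root hirr 1
  rw [cu_eval]
  linear_combination h4

/-- the exception of Theorem L does not occur for cubics -/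
theorem cu_ex {s r : F} (hirr : Irreducible (cu s r)) {M : Matrix (Fin 3) (Fin 3) F} (hM : M.charpoly = cu s r)
    (c : F) : (c • M⁻¹).charpoly ≠ cu s r := by
  intro h
  have hd : M.det = 1 := by
    rw [det_eq_sign_charpoly_coeff, hM, cu_coeff_zero, Fintype.card_fin]
    norm_num
  have hinv : M⁻¹ = M.adjugate := by
    rw [Matrix.inv_def, hd, Ring.inverse_one, one_smul]
  rw [hinv] at h
  have ha := adj_charpoly hd hM
  obtain ⟨h1, -⟩ := inv_of_charpoly ha
  obtain ⟨h2, -⟩ := inv_of_charpoly h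
  simp only [Matrix.smul_apply, smul_eq_mul] at h2
  have h3 : c * r = s := by rw [← h2, ← h1]; ring
  have h4 : c ^ 3 = 1 := by
    have h5 : (c • M.adjugate).det = 1 := by
      rw [det_eq_sign_charpoly_coeff, h, cu_coeff_zero, Fintype.card_fin]
      norm_num
    rw [det_smul, det_adjugate, hd, one_pow, mul_one, Fintype.card_fin] at h5
    exact h5
  apply no_root hirr (c ^ 2)
  rw [cu_eval, ← h3]
  linear_combination (c ^ 3 + 1 - r * c ^ 2) * h4

/-- a scalar of nonsquare determinant -/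
theorem exists_scalar {n : ℕ} (hn : Odd n) {ν : F} (hν : ¬ IsSquare ν) (X : Matrix (Fin n) (Fin n) F) :
    ∃ Z : GL (Fin n) F, (Z : Matrix (Fin n) (Fin n) F) * X = X * (Z : Matrix (Fin n) (Fin n) F) ∧
      ¬ IsSquare (Z : Matrix (Fin n) (Fin n) F).det := by
  have hν0 : ν ≠ 0 := by rintro rfl; exact hν (IsSquare.zero)
  have hdet : (ν • (1 : Matrix (Fin n) (Fin n) F)).det = ν ^ n := by
    rw [det_smul, det_one, mul_one, Fintype.card_fin]
  refine ⟨Matrix.GeneralLinearGroup.mkOfDetNeZero (ν • 1) (by rw [hdet]; exact pow_ne_zero _ hν0), ?_, ?_⟩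
  · show (ν • (1 : Matrix (Fin n) (Fin n) F)) * X = X * (ν • (1 : Matrix (Fin n) (Fin n) F))
    rw [smul_mul_assoc, one_mul, mul_smul_comm, mul_one]
  · show ¬ IsSquare (ν • (1 : Matrix (Fin n) (Fin n) F)).det
    rw [hdet]
    rintro ⟨t, ht⟩
    obtain ⟨k, rfl⟩ := hn
    apply hν
    refine ⟨t / ν ^ k, ?_⟩
    have h1 : ν ^ k ≠ 0 := pow_ne_zero _ hν0
    field_simp
    linear_combination ht

/-- **The input for `Ω₇(q)`.** -/
theorem gf_three [Finite F] (h2 : (2 : F) ≠ 0) : ∃ (N : ℕ) (f : F[X]), N.Coprime 6 ∧ GF 3 N f ∧ TLf 3 f := by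
  have := Fintype.ofFinite F
  have hcard : 3 ≤ Nat.card F := by
    by_contra hcon
    have h3 : 2 ≤ Nat.card F := Finite.one_lt_card
    have h4 : Nat.card F = 2 := by omega
    apply h2
    have h5 := Nat.cast_card_eq_zero F
    rw [← Nat.card_eq_fintype_card, h4] at h5
    exact_mod_cast h5
  obtain ⟨ν, hν⟩ : ∃ ν : F, ¬ IsSquare ν := FiniteField.exists_nonsquare (by
    intro h
    exact h2 (by have := ringChar.spec F 2; exact (this.2 (by rw [h])).symm ▸ (this.2 (by rw [h]))))
  obtain ⟨c, hc, h6, -, hsq⟩ := exists_class_all hcard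
  have hm := Matrix.charpoly_monic (c : Matrix (Fin 3) (Fin 3) F)
  have hd : (c : Matrix (Fin 3) (Fin 3) F).charpoly.natDegree = 3 := by
    rw [Matrix.charpoly_natDegree_eq_dim]; rfl
  have h0 : (c : Matrix (Fin 3) (Fin 3) F).charpoly.coeff 0 = -1 := by
    have h1 := det_eq_sign_charpoly_coeff (c : Matrix (Fin 3) (Fin 3) F)
    rw [c.2, Fintype.card_fin] at h1
    linear_combination h1
  have he := eq_cu hm hd h0
  obtain ⟨s, hs⟩ : ∃ s, s = -(c : Matrix (Fin 3) (Fin 3) F).charpoly.coeff 2 := ⟨_, rfl⟩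
  obtain ⟨r, hr⟩ : ∃ r, r = (c : Matrix (Fin 3) (Fin 3) F).charpoly.coeff 1 := ⟨_, rfl⟩
  rw [← hs, ← hr] at he
  have hirr : Irreducible (cu s r) := by rw [← he]; exact hc
  refine ⟨orderOf c, cu s r, h6, ⟨?_, hirr, cu_natDegree s r, cu_cop hirr, ?_, ?_, fun X c hX => cu_ex hirr hX c,
    fun X _ => exists_scalar ⟨1, rfl⟩ hν X⟩, ?_⟩
  · rw [← he]; exact hm
  · rw [← he]
    exact (H538.TC.pow_eq_one_iff_dvd hc _).1 (pow_orderOf_eq_one c)
  · rw [cu_coeff_zero]; norm_num
  · intro A hA hns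
    obtain ⟨a, b, hab⟩ := hsq ⟨A, hA⟩ hns
    have hchar : ∀ a : Matrix.SpecialLinearGroup (Fin 3) F,
        ((a * c * a⁻¹ : Matrix.SpecialLinearGroup (Fin 3) F) : Matrix (Fin 3) (Fin 3) F).charpoly = cu s r := by
      intro a
      rw [← he]
      rw [Matrix.SpecialLinearGroup.coe_mul (a * c) a⁻¹, Matrix.charpoly_mul_comm,
        ← Matrix.SpecialLinearGroup.coe_mul, inv_mul_cancel_left]
    exact ⟨_, _, (congrArg Subtype.val hab).symm, hchar a, hchar b⟩

end Cfsg.Agent.H140.TL
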